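import Cfsg.Agent.N2.Cl.FrSp.Sing

/-!
# N2 (S3519), symplectic groups: two blocks (helper79)

`a` = Singer element on the bigger block, the identity on the other one; `a` fixes one conjugate of `{e, 1 - e}`.
-/

set_option autoImplicit false
set_option linter.unusedSectionVars false

namespace Cfsg.Agent.N2C.FrSp

open Cfsg.Agent.DS.Cl Cfsg.Agent.DS.Cl.Fwd Cfsg.Agent.SB.Cl Module
open Cfsg.Agent.TH.Cl (KSp)

variable {K V E : Type} [Field K] [Fintype K] [AddCommGroup V] [Module K V] [Finite V] [Field E] [Finite E] [Algebra K E]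
  {h : HF K V} {F : FR h.EB} {m k p : ℕ} {H : Subgroup (RingAut h.EB)}

theorem rk_map [Nontrivial V] {γ : RingAut h.EB} (hγ : γ ∈ SAut h.EB) (e : h.EB) : rk h (γ e) = rk h e := by
  have : Module.Finite K V := Module.Finite.of_finite
  obtain ⟨L⟩ := SB.Tor.exists_SL h hγ
  have h1 : Nat.card (LinearMap.range (h.ap e)) = Nat.card (LinearMap.range (h.ap (γ e))) :=
    Nat.card_congr (L.g.toEquiv.subtypeEquiv fun x => ⟨by
      rintro ⟨y, rfl⟩
      exact ⟨L.g y, L.conj e y⟩, by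
      rintro ⟨y, hy⟩
      obtain ⟨y, rfl⟩ := L.g.surjective y
      exact ⟨y, L.g.injective ((L.conj e y).symm.trans hy)⟩⟩)
  rw [Module.natCard_eq_pow_finrank (K := K),
    Module.natCard_eq_pow_finrank (K := K) (V := LinearMap.range (h.ap (γ e)))] at h1
  exact (Nat.pow_right_injective Finite.one_lt_card h1).symm

theorem eq_of_rk {e f : h.EB} (hi : e * e = e) (hs : star e = e) (hs' : star f = f) (hfe : f * e = e)
    (hr : rk h f ≤ rk h e) : f = e := by
  have : Module.Finite K V := Module.Finite.of_finite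
  have h1 : LinearMap.range (h.ap e) = LinearMap.range (h.ap f) := Submodule.eq_of_le_of_finrank_le (by
    rintro _ ⟨v, rfl⟩
    exact ⟨h.ap e v, by rw [← h.ap_mul, hfe]⟩) hr
  have h2 : e * f = f := h.ap_ext fun v => by
    obtain ⟨w, hw⟩ : h.ap f v ∈ LinearMap.range (h.ap e) := h1 ▸ ⟨v, rfl⟩
    rw [h.ap_mul, ← hw, ← h.ap_mul, hi]
  have h3 := congrArg star h2
  rwa [star_mul, hs, hs', hfe, eq_comm] at h3

theorem nontrivial (o : KSp h F k) : Nontrivial V :=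
  Module.nontrivial_of_finrank_pos (R := K) (by have := o.two; rw [o.dim]; omega)

namespace Blk

variable {s : Sg K E m} {e : h.EB} (b : Blk h s e)

/-- multiplication by `z` on the block, the identity on the complement -/
def one (z : E) : h.EB := h.eb (b.φ ∘ₗ LinearMap.mulLeft K z ∘ₗ b.ψ) + (1 - e)

theorem ap_one (z : E) (v : V) : h.ap (b.one z) v = b.φ (z * b.ψ v) + (v - h.ap e v) := rfl

theorem one_φ (z x : E) : h.ap (b.one z) (b.φ x) = b.φ (z * x) := by rw [ap_one, b.ψφ, b.ap_φ, sub_self, add_zero]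

include b in
theorem ap_compl (v : V) : h.ap e (v - h.ap e v) = 0 := by rw [map_sub, ← b.φψ v, b.ap_φ, sub_self]

theorem one_iso (hs : star e = e) {z : E} (hz : z * s.σ z = 1) (v w : V) :
    h.b (h.ap (b.one z) v) (h.ap (b.one z) w) = h.b v w := by
  have h1 : ∀ x y, h.b (b.φ x + (v - h.ap e v)) (b.φ y + (w - h.ap e w)) =
      s.B x y + h.b (v - h.ap e v) (w - h.ap e w) := fun x y => by
    rw [h.add_left, h.add_right, h.add_right, b.b, b.b_zero hs _ (b.ap_compl w), b.b_zero' hs _ (b.ap_compl v), add_zero,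
      zero_add]
  have h2 := h1 (b.ψ v) (b.ψ w)
  rw [b.φψ, b.φψ, add_sub_cancel, add_sub_cancel] at h2
  rw [ap_one, ap_one, h1, s.B_iso hz, h2]

theorem one_comm (z : E) : b.one z * e = e * b.one z := h.ap_ext fun v => by
  rw [h.ap_mul, h.ap_mul, ← b.φψ v, one_φ, ap_one, map_add, b.ap_φ, b.ap_compl, add_zero]

theorem one_mul (z z' : E) : b.one z * b.one z' = b.one (z * z') := h.ap_ext fun v => by
  rw [h.ap_mul, ap_one _ z', map_add, one_φ, ap_one, ap_one, b.ψ_zero (b.ap_compl v), b.ap_compl, mul_zero, map_zero,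
    zero_add, sub_zero, mul_assoc]

/-- an idempotent commuting with a generator kills or fixes the block -/
theorem idem_cases {μ : E} (hμ : Algebra.adjoin K {μ} = ⊤) (h1 : μ ≠ 1) {f : h.EB} (hf : f * f = f)
    (hc : b.one μ * f = f * b.one μ) : f * e = 0 ∨ f * e = e := by
  have h2 : ∀ v, h.ap (b.one μ) (h.ap f v) = h.ap f (h.ap (b.one μ) v) := fun v => by rw [← h.ap_mul, hc, h.ap_mul]
  have h3 : ∀ x, h.ap e (h.ap f (b.φ x)) = h.ap f (b.φ x) := fun x => by
    have h4 : b.φ x = h.ap (b.one μ) (b.φ ((μ - 1)⁻¹ * x)) - b.φ ((μ - 1)⁻¹ * x) := by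
      rw [one_φ, ← map_sub, ← mul_assoc, ← sub_mul, ← sub_one_mul, mul_inv_cancel₀ (sub_ne_zero.2 h1), _root_.one_mul]
    rw [h4, map_sub (h.ap f), ← h2, ap_one, add_sub_right_comm, add_sub, sub_add_cancel,
      ← b.φψ (h.ap f _), ← map_sub b.φ, b.ap_φ]
  by_cases h0 : ∃ x, x ≠ 0 ∧ h.ap f (b.φ x) = 0
  · obtain ⟨x, hx0, hx⟩ := h0
    refine Or.inl (h.ap_ext fun v => ?_)
    rw [h.ap_mul, ← b.φψ]
    exact Sg.irr hμ (LinearMap.ker (h.ap f ∘ₗ b.φ)) (fun y (hy : h.ap f (b.φ y) = 0) =>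
      show h.ap f (b.φ (μ * y)) = 0 by rw [← one_φ, ← h2, hy, map_zero]) hx hx0 _
  · refine Or.inr (h.ap_ext fun v => ?_)
    rw [h.ap_mul, ← b.φψ]
    generalize b.ψ v = x
    have h4 : b.φ (x - b.ψ (h.ap f (b.φ x))) = b.φ x - h.ap f (b.φ x) := by rw [map_sub, b.φψ, h3]
    have h5 : x - b.ψ (h.ap f (b.φ x)) = 0 := by
      by_contra h5
      exact h0 ⟨_, h5, by rw [h4, map_sub, ← h.ap_mul, hf, sub_self]⟩
    rw [h5, map_zero] at h4
    exact (sub_eq_zero.1 h4.symm).symm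

end Blk

theorem fr_pair [DecidableEq h.EB] {e : h.EB} (h0 : e ≠ 0) (h1 : e ≠ 1) (hi : e * e = e) (hs : star e = e) :
    Fr ({e, 1 - e} : Finset h.EB) := by
  have h2 : e * (1 - e) = 0 := by rw [mul_sub, mul_one, hi, sub_self]
  have h3 : (1 - e) * e = 0 := by rw [sub_mul, one_mul, hi, sub_self]
  have h4 : e ≠ 1 - e := fun h4 => h0 (by rw [← hi, ← h2, ← h4])
  refine ⟨(Finset.card_pair h4).ge, ?_, ?_, ?_, ?_, by rw [Finset.sum_pair h4, add_sub_cancel]⟩ <;>
    simp only [Finset.mem_insert, Finset.mem_singleton, forall_eq_or_imp, forall_eq]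
  · exact ⟨h0, sub_ne_zero.2 h1.symm⟩
  · exact ⟨hi, by rw [mul_sub, mul_one, h3, sub_zero]⟩
  · exact ⟨hs, by rw [star_sub, star_one, hs]⟩
  · exact ⟨⟨fun h5 => absurd rfl h5, fun _ => h2⟩, fun _ => h3, fun h5 => absurd rfl h5⟩

theorem two_big (o : KSp h F k) (c : Ctx F H p) {e : h.EB} (h0 : e ≠ 0) (h1 : e ≠ 1) (hi : e * e = e) (hs : star e = e)
    (hI : ∀ γ ∈ H, γ e = e ∨ γ e = 1 - e) (hr : rk h (1 - e) ≤ rk h e) (hm : rk h e = 2 * m)
    (h4 : 4 ≤ Fintype.card K ^ m) : Gd F H := by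
  classical
  have := nontrivial o
  have hmem : ∀ γ ∈ F.S, (γ e = e ∨ γ e = 1 - e) → γ ∈ H := by
    have h5 : ∀ γ : RingAut h.EB, (γ e = e ∨ γ e = 1 - e) → ∀ x ∈ (({e, 1 - e} : Finset h.EB) : Set h.EB),
        γ x ∈ (({e, 1 - e} : Finset h.EB) : Set h.EB) := fun γ hγ x hx => by
      simp only [Finset.coe_insert, Finset.coe_singleton, Set.mem_insert_iff, Set.mem_singleton_iff] at hx ⊢
      rcases hx with rfl | rfl
      · exact hγ
      · rw [map_sub, map_one]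
        exact hγ.elim (fun h6 => Or.inr (by rw [h6])) fun h6 => Or.inl (by rw [h6, sub_sub_cancel])
    exact fun γ hγ h6 => c.mem_of_inv (fun δ hδ => h5 δ (hI δ hδ)) (not_inv c (fr_pair h0 h1 hi hs)) hγ (h5 γ h6)
  obtain ⟨E, _, _, _, ⟨s⟩⟩ := exists_sg K (m := m) (Nat.pos_of_ne_zero fun h5 => by rw [h5, pow_zero] at h4; omega)
  obtain ⟨b⟩ := exists_blk o.sp s hi hs hm
  let u := SB.Tor.isoU h _ (b.one_iso hs s.lam_σ)
  have hu : cj h.EB u ∈ F.S := TH.Cl.cj_mem_S (o.mem_comm (mem_Iso_max o.sp.2.2 (SB.Tor.isoU_ms _ _ _)))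
  refine N2.good_of_one (a := ⟨_, hu⟩) (hmem _ hu (Or.inl (cj_eq_of_mul (b.one_comm _)))) (N2.fx_le_one fun t ht => ?_)
  have hS : (t : RingAut h.EB) ∈ SAut h.EB := F.Aut_le_SAut (F.S_le_Aut t.2)
  have h5 : cj h.EB u (cj h.EB u (t.1 e)) = t.1 e := by
    rcases hI _ ht with h6 | h6
    · have h7 : cj h.EB u (t.1 e) = t.1 e := (ra_apply_inv t.1 _).symm.trans (congrArg t.1 h6)
      rw [h7, h7]
    · have h7 : cj h.EB u (t.1 e) = 1 - t.1 e :=
        (ra_apply_inv t.1 _).symm.trans ((congrArg t.1 h6).trans (by rw [map_sub, map_one]))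
      rw [h7, map_sub, map_one, h7, sub_sub_cancel]
  have h6 : b.one (s.lam ^ 2) * t.1 e = t.1 e * b.one (s.lam ^ 2) := by
    have h7 := cj_mul_eq (u * u) (t.1 e)
    rw [map_mul, ra_mul, h5] at h7
    rw [pow_two, ← b.one_mul]
    exact h7.symm
  have h7 : star (t.1 e) = t.1 e := by rw [← hS, hs]
  refine hmem _ t.2 ?_
  rcases b.idem_cases (s.gen (Or.inr ⟨rfl, h4⟩)) (s.pow_ne two_ne_zero s.two_le) (by rw [← map_mul, hi]) h6 with h8 | h8
  · right
    have h9 := eq_of_rk (f := 1 - t.1 e) hi hs (by rw [star_sub, star_one, h7]) (by rw [sub_mul, one_mul, h8, sub_zero])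
      (by rw [← map_one t.1, ← map_sub, rk_map hS]; exact hr)
    exact eq_sub_of_add_eq' (sub_eq_iff_eq_add.1 h9).symm
  · exact Or.inl (eq_of_rk hi hs h7 h8 (rk_map hS e).le)

/-- **two blocks** -/
theorem two (o : KSp h F k) (hk : 3 ≤ k ∨ 4 ≤ Fintype.card K) (c : Ctx F H p) {e : h.EB} (h0 : e ≠ 0) (h1 : e ≠ 1)
    (hi : e * e = e) (hs : star e = e) (hI : ∀ γ ∈ H, γ e = e ∨ γ e = 1 - e) : Gd F H := by
  classical
  wlog hr : rk h (1 - e) ≤ rk h e generalizing e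
  · refine this (e := 1 - e) (sub_ne_zero.2 h1.symm) (fun h2 => h0 (sub_eq_self.1 h2))
      (by rw [mul_sub, mul_one, sub_mul, one_mul, hi, sub_self, sub_zero]) (by rw [star_sub, star_one, hs])
      (fun γ hγ => ?_) (by rw [sub_sub_cancel]; omega)
    rw [map_sub, map_one]
    exact (hI γ hγ).imp (fun h2 => by rw [h2]) fun h2 => by rw [h2]
  obtain ⟨m, hm⟩ := even_rk o.sp hi hs
  have hD := fr_pair h0 h1 hi hs
  have h2 := SB.Tor.finrank_le_sum h hD.sum
  rw [Finset.sum_pair (fun h3 => h0 (by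
    rw [← hi]; nth_rewrite 2 [h3]; rw [mul_sub, mul_one, hi, sub_self])), o.dim] at h2
  have hq : 2 ≤ Fintype.card K := Fintype.one_lt_card
  have := o.two
  refine two_big o c h0 h1 hi hs hI hr (m := m) (by omega) ?_
  rcases hk with hk | hk
  · exact le_trans (Nat.pow_le_pow_left hq 2) (Nat.pow_le_pow_right (by omega) (by omega))
  · exact hk.trans (Nat.le_self_pow (by omega) _)

end Cfsg.Agent.N2C.FrSp

namespace Cfsg.Agent.N2C

/-- [FixSp] -/
theorem fixSp : OnSp 3 pFix := fun _ _ _ _ _ _ _ _ _ _ _ _ o hk c ⟨_, h0, h1, hi, hs, hI⟩ =>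
  FrSp.two o (Or.inl hk) c h0 h1 hi hs fun γ hγ => Or.inl (hI γ hγ)

end Cfsg.Agent.N2C
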