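import Cfsg.Agent.N2.Cl.FrSp.Two
import Cfsg.Agent.N2.Cl.FrSp.Num
import Cfsg.Agent.N2.Cl.Cyc.Cov

/-!
# N2 (S3519), symplectic groups: at least three blocks (helper79)

`f.cyc` permutes the `n + 1` blocks cyclically and `f.cyc ^ (n + 1) = lam` on every block.
-/

set_option autoImplicit false
set_option linter.unusedSectionVars false

namespace Cfsg.Agent.N2C.FrSp

open Cfsg.Agent.DS.Cl Cfsg.Agent.DS.Cl.Fwd Cfsg.Agent.SB.Cl Module Cfsg.Agent.N2C.Cyc
open Cfsg.Agent.TH.Cl (KSp)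

variable {K V E : Type} [Field K] [Fintype K] [AddCommGroup V] [Module K V] [Finite V] [Field E] [Finite E] [Algebra K E]
  {h : HF K V} {F : FR h.EB} {m k p n : ℕ} {H : Subgroup (RingAut h.EB)}

variable (h) in
/-- a frame with coordinates -/
structure Fm (s : Sg K E m) (n : ℕ) where
  /-- the idempotents -/
  e : Fin (n + 1) → h.EB
  /-- the blocks -/
  b : ∀ i, Blk h s (e i)
  orth : ∀ i j, i ≠ j → e i * e j = 0
  symm : ∀ i, star (e i) = e i
  sum : ∑ i, e i = 1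

theorem ap_sum {I : Type} (t : Finset I) (a : I → h.EB) (v : V) : h.ap (∑ i ∈ t, a i) v = ∑ i ∈ t, h.ap (a i) v :=
  LinearMap.sum_apply t (fun i => h.ap (a i)) v

namespace Fm

variable {s : Sg K E m} (f : Fm h s n)

theorem dec (v : V) : ∑ i, (f.b i).φ ((f.b i).ψ v) = v := by
  simp only [Blk.φψ]
  rw [← ap_sum, f.sum, h.ap_one]

theorem lin_ext {W : Type} [AddCommGroup W] [Module K W] {g g' : V →ₗ[K] W}
    (hg : ∀ i x, g ((f.b i).φ x) = g' ((f.b i).φ x)) : g = g' := LinearMap.ext fun v => by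
  rw [← f.dec v, map_sum, map_sum]
  exact Finset.sum_congr rfl fun i _ => hg i _

theorem ext {a a' : h.EB} (ha : ∀ i x, h.ap a ((f.b i).φ x) = h.ap a' ((f.b i).φ x)) : a = a' := f.lin_ext (W := V) ha

theorem ψφ_ne {i j : Fin (n + 1)} (hij : i ≠ j) (x : E) : (f.b i).ψ ((f.b j).φ x) = 0 :=
  (f.b i).ψ_zero ((f.b j).ap_other (f.orth i j hij) x)

theorem b_φ (i j : Fin (n + 1)) (x y : E) : h.b ((f.b i).φ x) ((f.b j).φ y) = if i = j then s.B x y else 0 := by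
  split_ifs with hij
  · subst hij
    exact (f.b i).b x y
  · exact (f.b i).b_zero (f.symm i) x ((f.b j).ap_other (f.orth i j hij) y)

theorem b_ext (o : IsSp h F) {a a' c c' : h.EB} (ha : ∀ i j x y, h.b (h.ap a ((f.b i).φ x)) (h.ap a' ((f.b j).φ y)) =
    h.b (h.ap c ((f.b i).φ x)) (h.ap c' ((f.b j).φ y))) (v w : V) :
    h.b (h.ap a v) (h.ap a' w) = h.b (h.ap c v) (h.ap c' w) :=
  LinearMap.congr_fun₂ (f.lin_ext (g := (bil o).compl₁₂ (h.ap a) (h.ap a')) (g' := (bil o).compl₁₂ (h.ap c) (h.ap c'))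
    fun i x => f.lin_ext fun j y => ha i j x y) v w

include f in
theorem finrank_eq : finrank K V = (n + 1) * (2 * m) := by
  have : Module.Finite K E := Module.Finite.of_finite
  have h1 : Function.Bijective (LinearMap.pi fun i => (f.b i).ψ) := ⟨fun v w e => by
    rw [← f.dec v, ← f.dec w]
    exact Finset.sum_congr rfl fun i _ => congrArg _ (congrFun e i), fun x => ⟨∑ i, (f.b i).φ (x i), funext fun j => by
      rw [LinearMap.pi_apply, map_sum, Finset.sum_eq_single j (fun i _ hi => f.ψφ_ne hi.symm _) (by simp), Blk.ψφ]⟩⟩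
  rw [(LinearEquiv.ofBijective _ h1).finrank_eq, Module.finrank_pi_fintype, Finset.sum_const, Finset.card_univ,
    Fintype.card_fin, s.dim, smul_eq_mul]

/-- monomial elements -/
def mon (π : Equiv.Perm (Fin (n + 1))) (c : Fin (n + 1) → E) : h.EB :=
  ∑ i, h.eb ((f.b (π i)).φ ∘ₗ LinearMap.mulLeft K (c i) ∘ₗ (f.b i).ψ)

theorem mon_φ (π : Equiv.Perm (Fin (n + 1))) (c : Fin (n + 1) → E) (i : Fin (n + 1)) (x : E) :
    h.ap (f.mon π c) ((f.b i).φ x) = (f.b (π i)).φ (c i * x) := by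
  rw [mon, ap_sum, Finset.sum_eq_single i (fun j _ hj => ?_) (by simp)]
  · change (f.b (π i)).φ (c i * (f.b i).ψ _) = _
    rw [Blk.ψφ]
  · change (f.b (π j)).φ (c j * (f.b j).ψ _) = _
    rw [f.ψφ_ne hj, mul_zero, map_zero]

theorem mon_iso (o : IsSp h F) (π : Equiv.Perm (Fin (n + 1))) {c : Fin (n + 1) → E} (hc : ∀ i, c i * s.σ (c i) = 1)
    (v w : V) : h.b (h.ap (f.mon π c) v) (h.ap (f.mon π c) w) = h.b v w :=
  f.b_ext o (c := 1) (c' := 1) (fun i j x y => by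
    rw [mon_φ, mon_φ, h.ap_one, h.ap_one, b_φ, b_φ]
    by_cases hij : i = j
    · rw [hij, if_pos rfl, if_pos rfl, s.B_iso (hc j)]
    · rw [if_neg hij, if_neg (π.injective.ne hij)]) v w

theorem mon_e (π : Equiv.Perm (Fin (n + 1))) (c : Fin (n + 1) → E) (i : Fin (n + 1)) :
    f.mon π c * f.e i = f.e (π i) * f.mon π c := f.ext fun j x => by
  rw [h.ap_mul, h.ap_mul, mon_φ]
  by_cases hij : i = j
  · rw [hij, Blk.ap_φ, Blk.ap_φ, mon_φ]
  · rw [(f.b j).ap_other (f.orth _ _ hij), (f.b _).ap_other (f.orth _ _ (π.injective.ne hij)), map_zero]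

/-- the scalars -/
def ι : E →+* h.EB where
  toFun z := f.mon 1 fun _ => z
  map_one' := f.ext fun i x => by rw [mon_φ, one_mul]; rfl
  map_mul' z z' := f.ext fun i x => by rw [h.ap_mul, mon_φ, mon_φ, mon_φ, mul_assoc]; rfl
  map_zero' := f.ext fun i x => by rw [mon_φ, zero_mul, map_zero]; rfl
  map_add' z z' := f.ext fun i x => by rw [h.ap_add, mon_φ, mon_φ, mon_φ, add_mul, map_add]

theorem ι_φ (z : E) (i : Fin (n + 1)) (x : E) : h.ap (f.ι z) ((f.b i).φ x) = (f.b i).φ (z * x) := f.mon_φ 1 _ i x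

theorem star_ι (o : IsSp h F) (z : E) : star (f.ι z) = f.ι (s.σ z) := h.ap_ext fun w => h.ext_right fun v => by
  rw [h.b_star]
  exact f.b_ext o (a' := 1) (c := 1) (fun i j x y => by rw [h.ap_one, h.ap_one, ι_φ, ι_φ, b_φ, b_φ, s.B_mul]) v w

theorem ι_unit {z : E} (hz : z ≠ 0) : IsUnit (f.ι z) := (IsUnit.mk0 z hz).map f.ι

/-- the cyclic element -/
def cyc : h.EB := f.mon (finRotate (n + 1)) fun i => if i = Fin.last n then s.lam else 1

theorem cyc_ι (z : E) : f.ι z * f.cyc = f.cyc * f.ι z := f.ext fun i x => by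
  rw [h.ap_mul, h.ap_mul, cyc, mon_φ, ι_φ, ι_φ, mon_φ, mul_left_comm]

theorem pow_φ (i : Fin (n + 1)) (x : E) : h.ap (f.cyc ^ (i : ℕ)) ((f.b 0).φ x) = (f.b i).φ x := by
  induction i using Fin.induction with
  | zero => rfl
  | succ i ih =>
    rw [Fin.val_succ, pow_succ', h.ap_mul, ← Fin.val_castSucc, ih, cyc, mon_φ, if_neg (Fin.castSucc_ne_last i), one_mul,
      finRotate_apply, Fin.coeSucc_eq_succ]

theorem cyc_pow : f.cyc ^ (n + 1) = f.ι s.lam := f.ext fun i x => by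
  rw [ι_φ, ← pow_φ, ← h.ap_mul, ← pow_add, add_comm, pow_add, h.ap_mul, pow_succ', h.ap_mul, ← pow_φ _ i]
  refine congrArg _ ((congrArg _ (f.pow_φ (Fin.last n) x)).trans ?_)
  rw [cyc, mon_φ, if_pos rfl, finRotate_last]

theorem comm_ι {x : h.EB} (hx : x * f.cyc = f.cyc * x) (z : E) : x * f.ι z = f.ι z * x := by
  have hz : z ∈ Algebra.adjoin K {s.lam ^ 1} := s.gen (Or.inl rfl) ▸ trivial
  induction hz using Algebra.adjoin_induction with
  | mem z hz =>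
    rw [hz, pow_one, ← cyc_pow]
    exact (Commute.pow_right hx _).eq
  | algebraMap c =>
    have h1 : ∀ v, h.ap (f.ι (algebraMap K E c)) v = c • v := LinearMap.congr_fun
      (f.lin_ext (g' := c • LinearMap.id) fun i y => by rw [ι_φ, ← Algebra.smul_def, map_smul]; rfl)
    exact h.ap_ext fun v => by rw [h.ap_mul, h.ap_mul, h1, h1, map_smul]
  | add a b _ _ ha hb => rw [map_add, mul_add, add_mul, ha, hb]
  | mul a b _ _ ha hb => rw [map_mul, ← mul_assoc, ha, mul_assoc, hb, mul_assoc]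

theorem ap_gen (i : Fin (n + 1)) (z : E) : h.ap (f.cyc ^ (i : ℕ) * f.ι z) ((f.b 0).φ 1) = (f.b i).φ z := by
  rw [h.ap_mul, ι_φ, mul_one, pow_φ]

theorem comm_gen {x : h.EB} (hx : x * f.cyc = f.cyc * x) (i : ℕ) (z : E) :
    x * (f.cyc ^ i * f.ι z) = f.cyc ^ i * f.ι z * x := by
  rw [← mul_assoc, (Commute.pow_right hx i).eq, mul_assoc, f.comm_ι hx, mul_assoc]

theorem eq_of_ap {x y : h.EB} (hx : x * f.cyc = f.cyc * x) (hy : y * f.cyc = f.cyc * y)
    (e : h.ap x ((f.b 0).φ 1) = h.ap y ((f.b 0).φ 1)) : x = y := f.ext fun i z => by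
  rw [← ap_gen, ← h.ap_mul, ← h.ap_mul, f.comm_gen hx, f.comm_gen hy, h.ap_mul, h.ap_mul _ y, e]

theorem exists_sum {x : h.EB} (hx : x * f.cyc = f.cyc * x) :
    ∃ z : Fin (n + 1) → E, x = ∑ i : Fin (n + 1), f.cyc ^ (i : ℕ) * f.ι (z i) := by
  refine ⟨fun i => (f.b i).ψ (h.ap x ((f.b 0).φ 1)), f.eq_of_ap hx ?_ ?_⟩
  · rw [Finset.sum_mul, Finset.mul_sum]
    exact Finset.sum_congr rfl fun i _ => (f.comm_gen rfl _ _).symm
  · rw [ap_sum]
    simp only [ap_gen]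
    exact (f.dec _).symm

theorem isCyc : IsCyc f.cyc := fun x y hx hy => by
  obtain ⟨z, rfl⟩ := f.exists_sum hy
  rw [Finset.sum_mul, Finset.mul_sum]
  exact Finset.sum_congr rfl fun i _ => f.comm_gen hx _ _

theorem cA_le : cA f.cyc ≤ (Fintype.card K ^ (m * (n + 1))) ^ 2 := by
  have : Module.Finite K V := Module.Finite.of_finite
  refine (Nat.card_le_card_of_injective (fun x => h.ap x.1 ((f.b 0).φ 1)) fun x y e =>
    Subtype.ext (f.eq_of_ap x.2 y.2 e)).trans (le_of_eq ?_)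
  rw [Module.natCard_eq_pow_finrank (K := K), f.finrank_eq, Nat.card_eq_fintype_card, ← pow_mul]
  congr 1
  ring

theorem cyc_iso (o : IsSp h F) (v w : V) : h.b (h.ap f.cyc v) (h.ap f.cyc w) = h.b v w := f.mon_iso o _ (fun i => by
  split_ifs
  · exact s.lam_σ
  · rw [map_one, one_mul]) v w

theorem cyc_ms (o : IsSp h F) : f.cyc * star f.cyc = 1 := SB.Tor.isoU_ms h _ (f.cyc_iso o)

theorem tr_one (o : IsSp h F) : f.ι (s.lam / s.δ) + star (f.ι (s.lam / s.δ)) = 1 := by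
  rw [f.star_ι o, ← map_add, map_div₀, s.σ_δ, div_neg, ← sub_eq_add_neg, ← sub_div, ← Sg.δ, div_self s.δ_ne, map_one]

theorem cU_le (o : IsSp h F) : cU f.cyc ≤ (Fintype.card K + 1) ^ (m * (n + 1)) := by
  rw [← Nat.card_eq_fintype_card]
  refine cU_le_unit (f.cyc_ms o) f.isCyc (f.cyc_ι _) (f.tr_one o) (f.cyc_ι s.lam)
    (by rw [f.star_ι o, ← map_sub]; exact f.ι_unit s.δ_ne) (fun c : K => f.ι (algebraMap K E c)) (fun _ => f.cyc_ι _)
    (fun c => by rw [f.star_ι o, AlgEquiv.commutes]) (fun c d hcd => ?_) Finite.one_lt_card ?_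
  · rw [← map_sub]
    exact f.ι_unit (sub_ne_zero.2 ((algebraMap K E).injective.ne hcd))
  · rw [Nat.card_eq_fintype_card]
    exact f.cA_le

theorem cS_sq_le (o : IsSp h F) : cS f.cyc ^ 2 ≤ (Fintype.card K ^ (m * (n + 1))) ^ 2 :=
  (cS_sq_le_unit (f.cyc_ms o) f.isCyc (f.cyc_ι _) (f.tr_one o) (f.cyc_ι s.δ) (by rw [f.star_ι o, s.σ_δ, map_neg])
    (f.ι_unit s.δ_ne)).trans f.cA_le

theorem e_inj : Function.Injective f.e := fun i j hij => by
  by_contra h1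
  have h2 := (f.b j).ap_other (f.orth i j h1) 1
  rw [hij, Blk.ap_φ] at h2
  exact one_ne_zero ((f.b j).inj (h2.trans (map_zero _).symm))

/-- the order of the stabiliser -/
theorem card_le (L : Subgroup h.EBˣ) (h1 : L ≤ F.Iso) (h2 : ∀ u ∈ L, ∀ i, ∃ j, cj h.EB u (f.e i) = f.e j) :
    Nat.card L ≤ (n + 1).factorial * oSp m (Fintype.card K) ^ (n + 1) := by
  have : Module.Finite K E := Module.Finite.of_finite
  have h3 : ∀ u : L, ∃ y : Equiv.Perm (Fin (n + 1)) × (Fin (n + 1) → H727.GW.isomGroup s.B),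
      ∀ i x, h.ap u.1 ((f.b i).φ x) = (f.b (y.1 i)).φ ((y.2 i).1 x) := fun u => by
    choose π hπ using h2 u u.2
    have h4 : Function.Injective π := fun i j e => f.e_inj ((cj h.EB u.1).injective (by rw [hπ, hπ, e]))
    have h5 : ∀ i x, (f.b (π i)).φ ((f.b (π i)).ψ (h.ap u.1 ((f.b i).φ x))) = h.ap u.1 ((f.b i).φ x) := fun i x => by
      rw [Blk.φψ, ← hπ, ← h.ap_mul, cj_mul_eq, h.ap_mul, Blk.ap_φ]
    have h6 : ∀ i x y, s.B (((f.b (π i)).ψ ∘ₗ h.ap u.1 ∘ₗ (f.b i).φ) x) (((f.b (π i)).ψ ∘ₗ h.ap u.1 ∘ₗ (f.b i).φ) y) =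
        s.B x y := fun i x y => by
      rw [← (f.b (π i)).b, ← (f.b i).b]
      exact (congrArg₂ _ (h5 i x) (h5 i y)).trans ((h.unit_iff _).1 (h1 u.2).1 _ _)
    exact ⟨⟨Equiv.ofBijective π (Finite.injective_iff_bijective.1 h4), fun i =>
      ⟨LinearEquiv.ofInjectiveEndo ((f.b (π i)).ψ ∘ₗ h.ap u.1 ∘ₗ (f.b i).φ) ((injective_iff_map_eq_zero _).2 fun x hx =>
        s.B_nd x fun y => by rw [← h6 i, hx, map_zero, LinearMap.zero_apply]), fun x y => h6 i x y⟩⟩,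
      fun i x => (h5 i x).symm⟩
  choose g hg using h3
  have : Finite (E ≃ₗ[K] E) := Finite.of_injective (fun g => (g : E → E)) DFunLike.coe_injective
  refine (Nat.card_le_card_of_injective g fun u v e => Subtype.ext (Units.ext (f.ext fun i x => ?_))).trans (le_of_eq ?_)
  · rw [hg, hg, e]
  · rw [Nat.card_prod, Nat.card_perm, Nat.card_fun, Nat.card_fin, H727.GW.card_isomGroup _ s.B_self s.B_nd s.dim]
    rfl

end Fm

theorem char_zero {r : ℕ} (hK : Fintype.card K = r) : (r : h.EB) = 0 := by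
  have h1 : (r : K) = 0 := hK ▸ FiniteField.cast_card_eq_zero K
  have h2 := map_natCast (algebraMap K (End K V)) r
  rw [h1, map_zero] at h2
  exact h2.symm

namespace Fm

variable {s : Sg K E 1} (f : Fm h s 2)

/-- `Sp₆(2)` -/
theorem cU_two [Nontrivial V] (o : IsSp h F) (hK : Fintype.card K = 2) : cU f.cyc ≤ 9 := by
  have h1 := f.cS_sq_le o
  have h2 := f.cA_le
  have h3 := s.ord
  rw [hK] at h1 h2 h3
  refine (cU_le_field (f.cyc_ms o) f.isCyc (fun x hx h0 => ?_) (f.cyc_ι s.lam) fun e => ?_).trans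
    (Nat.succ_le_succ ((Nat.pow_le_pow_iff_left two_ne_zero).1 h1))
  · refine (field9 (R := Cn f.isCyc) (a := Cn.mk _ f.cyc rfl) (x := Cn.mk _ x hx) (Cn.val_inj ?_) (cA_eq f.isCyc ▸ h2)
      (Cn.val_inj ?_) (Cn.isUnit ?_) fun e => h0 (congrArg Cn.val e)).map Cn.val
    · rw [map_ofNat, map_zero]
      exact char_zero hK
    · rw [map_pow, map_one]
      change f.cyc ^ (3 * 3) = 1
      rw [pow_mul, f.cyc_pow, ← map_pow, show s.lam ^ 3 = 1 from (congrArg _ h3.symm).trans (pow_orderOf_eq_one _), map_one]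
    · rw [map_sub, map_pow, map_one]
      change IsUnit (f.cyc ^ (2 + 1) - 1)
      rw [f.cyc_pow, ← map_one f.ι, ← map_sub]
      exact f.ι_unit (sub_ne_zero.2 (pow_one s.lam ▸ s.pow_ne one_ne_zero (by have := s.two_le; omega)))
  · rw [f.star_ι o] at e
    have : Nontrivial h.EB := inferInstanceAs (Nontrivial (End K V))
    exact s.δ_ne (sub_eq_zero.2 (f.ι.injective e).symm)

/-- `Sp₆(3)` -/
theorem cU_three [Nontrivial V] (o : IsSp h F) (hK : Fintype.card K = 3) : cU f.cyc ≤ 36 := by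
  classical
  have h1 := f.cS_sq_le o
  rw [hK, cS_eq f.isCyc (f.cyc_ms o)] at h1
  let j : E →+* Cn f.isCyc := f.ι.codRestrict (Subring.centralizer {f.cyc}) fun z => (Cn.mk f.isCyc _ (f.cyc_ι z)).2
  have hj : ∀ z, Cn.val (j z) = f.ι z := fun _ => rfl
  have hσ : ∀ z, Cn.sg f.isCyc (f.cyc_ms o) (j z) = j (s.σ z) := fun z => Cn.val_inj (f.star_ι o z)
  have h3 : (3 : Cn f.isCyc) = 0 := Cn.val_inj (by rw [map_ofNat, map_zero]; exact char_zero hK)
  have : Nontrivial h.EB := inferInstanceAs (Nontrivial (End K V))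
  have : Nontrivial (Cn f.isCyc) := Cn.val.domain_nontrivial
  rw [cU_eq f.isCyc (f.cyc_ms o)]
  refine loc36 h3 ((Polynomial.nthRoots 4 (1 : E)).toFinset.image j) (Finset.card_image_le.trans
    ((Multiset.toFinset_card_le _).trans (Polynomial.card_nthRoots 4 1))) (fun u hu => ?_) (δ := j s.δ)
    (by rw [hσ, s.σ_δ, map_neg]) ((IsUnit.mk0 _ s.δ_ne).map j) ((Nat.pow_le_pow_iff_left two_ne_zero).1 h1)
  obtain ⟨z, hz⟩ := f.exists_sum u.comm
  have h4 : (Cn.mk f.isCyc f.cyc rfl) ^ 3 = j s.lam := Cn.val_inj (by rw [map_pow]; exact f.cyc_pow)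
  have h5 : u = j (z 0) + Cn.mk f.isCyc f.cyc rfl * j (z 1) + Cn.mk f.isCyc f.cyc rfl ^ 2 * j (z 2) := Cn.val_inj (by
    rw [hz, Fin.sum_univ_three, map_add, map_add, map_mul, map_mul, map_pow]
    change f.cyc ^ 0 * _ + f.cyc ^ 1 * _ + _ = _
    rw [pow_zero, one_mul, pow_one]
    rfl)
  obtain ⟨w, hw⟩ : ∃ w, u ^ 3 = j w := by
    refine ⟨z 0 ^ 3 + s.lam * z 1 ^ 3 + s.lam ^ 2 * z 2 ^ 3, ?_⟩
    simp only [map_add, map_mul, map_pow, ← h4]
    rw [h5]
    generalize Cn.mk f.isCyc f.cyc rfl = a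
    linear_combination ((j (z 0) + a * j (z 1)) * (a * j (z 1) + a ^ 2 * j (z 2)) * (a ^ 2 * j (z 2) + j (z 0))) * h3
  have h6 : w ^ 4 = 1 := j.injective (by
    have h7 := congrArg (· ^ 3) hu
    simp only [mul_pow, ← map_pow, hw, hσ, s.σ_eq, hK] at h7
    rw [map_one, show w ^ 4 = w * w ^ 3 ^ 1 by ring, map_mul, h7, one_pow])
  exact ⟨Finset.mem_image.2 ⟨w, Multiset.mem_toFinset.2 ((Polynomial.mem_nthRoots four_pos).2 h6), hw.symm⟩,
    by rw [show 12 = 3 * 4 from rfl, pow_mul, hw, ← map_pow, h6, map_one]⟩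

end Fm

theorem le_card_I0 (o : KSp h F k) : oSp k (Fintype.card K) ≤ Nat.card (I0 F) := by
  have : Module.Finite K V := Module.Finite.of_finite
  refine (H727.GW.card_isomGroup (bil o.sp) o.sp.2.1 (bil_nd o.sp) o.dim).ge.trans (Nat.card_le_card_of_injective
    (fun g => ⟨SB.Tor.isoU h (h.eb g.1) g.2, o.mem_comm (mem_Iso_max o.sp.2.2 (SB.Tor.isoU_ms _ _ _))⟩) fun g g' e => ?_)
  exact Subtype.ext (LinearEquiv.toLinearMap_injective (congrArg (fun u : I0 F => (u.1 : h.EB)) e))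

theorem many (o : KSp h F k) (c : Ctx F H p) {s : Sg K E m} (f : Fm h s n) (hn : 2 ≤ n) {D : Finset h.EB} (hD : Fr D)
    (hI : Inv H D) (he : ∀ x, x ∈ D ↔ ∃ i, f.e i = x) : Gd F H := by
  have := nontrivial o
  have hk : k = m * (n + 1) := by
    have h1 := f.finrank_eq
    rw [o.dim] at h1
    nlinarith
  let u := SB.Tor.isoU h _ (f.cyc_iso o.sp)
  have hu : u ∈ I0 F := o.mem_comm (mem_Iso_max o.sp.2.2 (SB.Tor.isoU_ms _ _ _))
  have h1 := f.card_le (F := F) (Lf F H) (fun _ hv => F.comm_le_Iso hv.2) fun v hv i => by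
    obtain ⟨j, hj⟩ := (he _).1 (hI _ hv.1 _ ((he _).2 ⟨i, rfl⟩))
    exact ⟨j, hj.symm⟩
  have h2 : ∀ X, cU f.cyc ≤ X → X ^ 3 * ((n + 1).factorial * oSp m (Fintype.card K) ^ (n + 1)) ≤
      oSp (m * (n + 1)) (Fintype.card K) → Gd F H := fun X hX hX' =>
    gd_of_lift hu (c.mem_of_inv hI (not_inv c hD) ⟨u, hu, rfl⟩ fun x hx => by
      obtain ⟨i, rfl⟩ := (he x).1 hx
      exact (he _).2 ⟨_, (cj_eq_of_mul (f.mon_e _ _ i)).symm⟩) ((cn_le hu).trans ((cI_le_cU F u).trans hX))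
      ((Nat.mul_le_mul_left _ h1).trans (hX'.trans (hk ▸ le_card_I0 o)))
  have hq : 2 ≤ Fintype.card K := Fintype.one_lt_card
  by_cases h3 : m = 1 → n + 1 = 3 → 4 ≤ Fintype.card K
  · exact h2 _ (f.cU_le o.sp) (num hq s.pos (by omega) h3)
  push Not at h3
  obtain ⟨rfl, h3, h4⟩ := h3
  obtain rfl : n = 2 := by omega
  obtain h5 | h5 : Fintype.card K = 2 ∨ Fintype.card K = 3 := by omega
  · exact h2 _ (f.cU_two o.sp h5) (by rw [h5]; exact num2)
  · exact h2 _ (f.cU_three o.sp h5) (by rw [h5]; exact num3)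

/-- **a transitive frame** -/
theorem fr (o : KSp h F k) (hk : 3 ≤ k ∨ 4 ≤ Fintype.card K) (c : Ctx F H p) {D : Finset h.EB} (hD : Fr D) (hI : Inv H D)
    (ht : ∀ e ∈ D, ∀ e' ∈ D, ∃ γ ∈ H, γ e = e') : Gd F H := by
  have := nontrivial o
  obtain ⟨n, hn⟩ : ∃ n, D.card = n + 1 := ⟨D.card - 1, by have := hD.two; omega⟩
  let ε := (Finset.equivFinOfCardEq hn).symm
  have he : ∀ x, x ∈ D ↔ ∃ i, (ε i).1 = x := fun x =>
    ⟨fun hx => ⟨ε.symm ⟨x, hx⟩, by rw [ε.apply_symm_apply]⟩, fun ⟨i, hi⟩ => hi ▸ (ε i).2⟩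
  have hs : ∑ i, (ε i).1 = 1 := by rw [ε.sum_comp fun x => x.1, Finset.sum_coe_sort D fun x => x, hD.sum]
  have h0 := (ε 0).2
  by_cases h2 : 2 ≤ n
  · obtain ⟨m, hm⟩ := even_rk o.sp (hD.idem _ h0) (hD.symm _ h0)
    have : Module.Finite K V := Module.Finite.of_finite
    obtain ⟨E, _, _, _, ⟨s⟩⟩ := exists_sg K (m := m) (Nat.pos_of_ne_zero fun h3 => hD.ne _ h0
      (LinearMap.range_eq_bot.1 (Submodule.finrank_eq_zero.1 (hm.trans (by rw [h3])))))
    have h3 : ∀ i, Nonempty (Blk h s (ε i).1) := fun i => exists_blk o.sp s (hD.idem _ (ε i).2) (hD.symm _ (ε i).2) (by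
      obtain ⟨γ, hγ, h4⟩ := ht _ h0 _ (ε i).2
      rw [← h4, rk_map (c.le_SAut hγ), hm, two_mul])
    exact many o c ⟨fun i => (ε i).1, fun i => (h3 i).some, fun i j hij => hD.orth _ (ε i).2 _ (ε j).2 fun e =>
      hij (ε.injective (Subtype.ext e)), fun i => hD.symm _ (ε i).2, hs⟩ h2 hD hI he
  obtain rfl : n = 1 := by have := hD.two; omega
  rw [Fin.sum_univ_two] at hs
  refine two o hk c (hD.ne _ h0) (hD.ne_one h0) (hD.idem _ h0) (hD.symm _ h0) fun γ hγ => ?_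
  obtain ⟨i, hi⟩ := (he _).1 (hI γ hγ _ h0)
  fin_cases i
  · exact Or.inl hi.symm
  · exact Or.inr (hi.symm.trans (eq_sub_of_add_eq' hs))

end Cfsg.Agent.N2C.FrSp

namespace Cfsg.Agent.N2C

/-- [FrSp] -/
theorem frSp : OnSp 3 pFr := fun _ _ _ _ _ _ _ _ _ _ _ _ o hk c ⟨_, _, _, hD, hI, ht⟩ => FrSp.fr o (Or.inl hk) c hD hI ht

end Cfsg.Agent.N2C
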