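import Cfsg.Agent.N2.Cl.Defs
import Cfsg.Agent.TH.Cl.Big.Mem
import Cfsg.Agent.SB.Fr.Ring
import Cfsg.Agent.H727.GW.Isom

/-!
# N2 (S3519), symplectic groups: the Singer model of an alternating space (helper79)

`Sg K E m` : `E = F_(q^2m)`, `σ x = x ^ q ^ m`, `lam` of order `q ^ m + 1`; `B x y = Tr ((lam - σ lam) x σ y)`.
`Blk h s e` : an isometric embedding of `(E, B)` onto the image of the symmetric idempotent `e`.
-/

set_option autoImplicit false
set_option linter.unusedSectionVars false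

namespace Cfsg.Agent.N2C.FrSp

open Cfsg.Agent.DS.Cl Cfsg.Agent.DS.Cl.Fwd Cfsg.Agent.SB.Cl Module Polynomial
open Cfsg.Agent.TH.Cl (KSp)

/-- the Singer data -/
structure Sg (K E : Type) [Field K] [Fintype K] [Field E] [Algebra K E] (m : ℕ) where
  /-- the involution -/
  σ : E ≃ₐ[K] E
  /-- the element of order `q ^ m + 1` -/
  lam : E
  pos : 0 < m
  dim : finrank K E = 2 * m
  σ_eq : ∀ x, σ x = x ^ Fintype.card K ^ m
  ord : orderOf lam = Fintype.card K ^ m + 1

theorem exists_sg (K : Type) [Field K] [Fintype K] {m : ℕ} (hm : 0 < m) :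
    ∃ (E : Type) (_ : Field E) (_ : Finite E) (_ : Algebra K E), Nonempty (Sg K E m) := by
  obtain ⟨p, hp⟩ := CharP.exists K
  have : Fact p.Prime := ⟨CharP.char_is_prime K p⟩
  have : NeZero (2 * m) := ⟨by omega⟩
  let E := FiniteField.Extension K p (2 * m)
  obtain ⟨g, hg⟩ := IsCyclic.exists_ofOrder_eq_natCard (α := Eˣ)
  have h1 : 1 < Fintype.card K ^ m := Nat.one_lt_pow hm.ne' Fintype.one_lt_card
  have h2 : Nat.card Eˣ = (Fintype.card K ^ m - 1) * (Fintype.card K ^ m + 1) := by
    rw [Nat.card_units, FiniteField.natCard_extension, Nat.card_eq_fintype_card, mul_comm 2 m, pow_mul,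
      mul_comm (_ - 1), ← Nat.sq_sub_sq, one_pow]
  refine ⟨E, inferInstance, inferInstance, inferInstance, ⟨⟨FiniteField.frobeniusAlgEquivOfAlgebraic K E ^ m,
    (g ^ (Fintype.card K ^ m - 1) : Eˣ), hm, FiniteField.finrank_extension K p (2 * m), fun x => ?_, ?_⟩⟩⟩
  · rw [AlgEquiv.coe_pow, FiniteField.coe_frobeniusAlgEquivOfAlgebraic_iterate]
  · rw [orderOf_units, orderOf_pow_of_dvd (by omega) (by rw [hg, h2]; exact dvd_mul_right _ _), hg, h2,
      Nat.mul_div_cancel_left _ (by omega)]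

namespace Sg

variable {K E : Type} [Field K] [Fintype K] [Field E] [Finite E] [Algebra K E] {m : ℕ} (s : Sg K E m)

include s in
theorem two_le : 2 ≤ Fintype.card K ^ m := Nat.one_lt_pow s.pos.ne' Fintype.one_lt_card

include s in
theorem card : Nat.card E = Fintype.card K ^ (2 * m) := by
  have : Module.Finite K E := Module.Finite.of_finite
  rw [Module.natCard_eq_pow_finrank (K := K), s.dim, Nat.card_eq_fintype_card]

theorem σσ (x : E) : s.σ (s.σ x) = x := by
  have := Fintype.ofFinite E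
  rw [s.σ_eq, s.σ_eq, ← pow_mul, ← pow_add, ← two_mul, ← s.card, Nat.card_eq_fintype_card, FiniteField.pow_card]

theorem lam_σ : s.lam * s.σ s.lam = 1 := by rw [s.σ_eq, ← pow_succ', ← s.ord, pow_orderOf_eq_one]

theorem lam_ne : s.lam ≠ 0 := left_ne_zero_of_mul_eq_one s.lam_σ

theorem pow_ne {j : ℕ} (h0 : j ≠ 0) (hj : j ≤ Fintype.card K ^ m) : s.lam ^ j ≠ 1 :=
  pow_ne_one_of_lt_orderOf h0 (by rw [s.ord]; omega)

/-- the skew element -/
def δ : E := s.lam - s.σ s.lam

theorem σ_δ : s.σ s.δ = -s.δ := by rw [δ, map_sub, s.σσ, neg_sub]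

theorem δ_ne : s.δ ≠ 0 := fun h => s.pow_ne two_ne_zero s.two_le (by
  rw [pow_two, ← s.lam_σ, ← sub_eq_zero.1 h])

/-- the alternating form -/
noncomputable def B : LinearMap.BilinForm K E :=
  LinearMap.mk₂ K (fun x y => Algebra.trace K E (s.δ * x * s.σ y)) (fun _ _ _ => by rw [mul_add, add_mul, map_add])
    (fun _ _ _ => by rw [mul_smul_comm, smul_mul_assoc, map_smul]) (fun _ _ _ => by rw [map_add, mul_add, map_add])
    fun _ _ _ => by rw [map_smul, mul_smul_comm, map_smul]

theorem B_apply (x y : E) : s.B x y = Algebra.trace K E (s.δ * x * s.σ y) := rfl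

theorem B_self (x : E) : s.B x x = 0 := by
  have h1 := Algebra.trace_eq_of_algEquiv s.σ (s.lam * x * s.σ x)
  rw [B_apply, show s.δ * x * s.σ x = s.lam * x * s.σ x - s.σ (s.lam * x * s.σ x) by
    rw [δ, map_mul, map_mul, s.σσ]; ring, map_sub, h1, sub_self]

theorem B_nd (x : E) (hx : ∀ y, s.B x y = 0) : x = 0 := by
  have : Module.Finite K E := Module.Finite.of_finite
  refine (mul_eq_zero.1 ((traceForm_nondegenerate K E).1 (s.δ * x) fun y => ?_)).resolve_left s.δ_ne
  have h1 := hx (s.σ y)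
  rwa [B_apply, s.σσ] at h1

theorem B_mul (z x y : E) : s.B (z * x) y = s.B x (s.σ z * y) := by
  rw [B_apply, B_apply, map_mul s.σ, s.σσ]
  congr 1
  ring

theorem B_iso {z : E} (hz : z * s.σ z = 1) (x y : E) : s.B (z * x) (z * y) = s.B x y := by
  rw [B_mul, ← mul_assoc, mul_comm _ z, hz, one_mul]

/-- `lam ^ j` generates `E` -/
theorem gen {j : ℕ} (hj : j = 1 ∨ (j = 2 ∧ 4 ≤ Fintype.card K ^ m)) : Algebra.adjoin K {s.lam ^ j} = ⊤ := by
  have : Module.Finite K E := Module.Finite.of_finite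
  have h2 := s.two_le
  have hq : 2 ≤ Fintype.card K := Fintype.one_lt_card
  let L := IntermediateField.adjoin K {s.lam ^ j}
  have := Fintype.ofFinite L
  have h1 : finrank K L ∣ 2 * m := s.dim ▸ Dvd.intro _ (finrank_mul_finrank K L E)
  have h3 : Fintype.card L = Fintype.card K ^ finrank K L := Module.card_eq_pow_finrank
  have h4 : Fintype.card K ^ m + 1 ∣ j * (Fintype.card K ^ finrank K L - 1) := by
    rw [← s.ord, orderOf_dvd_iff_pow_eq_one, pow_mul, ← h3]
    exact congrArg Subtype.val (FiniteField.pow_card_sub_one_eq_one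
      (⟨_, IntermediateField.mem_adjoin_simple_self K _⟩ : L) fun h => pow_ne_zero j s.lam_ne (congrArg Subtype.val h))
  have h5 : finrank K L = finrank K E := by
    by_contra h5
    have h6 : finrank K L ≤ m := by
      obtain ⟨c, hc⟩ := h1
      rw [s.dim] at h5
      have : 2 ≤ c := by
        by_contra h7
        have := s.pos
        obtain rfl | rfl : c = 0 ∨ c = 1 := by omega
        all_goals omega
      nlinarith
    have h7 : 2 ≤ Fintype.card K ^ finrank K L := Nat.one_lt_pow finrank_pos.ne' hq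
    have h8 := Nat.le_of_dvd (Nat.mul_pos (by omega) (by omega)) h4
    rcases h6.eq_or_lt with h9 | h9
    · rw [h9] at h4 h8
      rcases hj with rfl | ⟨rfl, h10⟩
      · omega
      · have h11 := Nat.le_of_dvd (by norm_num) ((Nat.dvd_add_right h4).1
          (show _ ∣ 2 * (Fintype.card K ^ m - 1) + 4 from ⟨2, by omega⟩))
        omega
    · have h10 : Fintype.card K ^ finrank K L * 2 ≤ Fintype.card K ^ m :=
        (Nat.mul_le_mul_left _ hq).trans (by rw [← pow_succ]; exact Nat.pow_le_pow_right (by omega) h9)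
      rcases hj with rfl | ⟨rfl, -⟩ <;> omega
  rw [← IntermediateField.adjoin_simple_toSubalgebra_of_isAlgebraic (Algebra.IsAlgebraic.isAlgebraic _),
    show IntermediateField.adjoin K {s.lam ^ j} = ⊤ from IntermediateField.eq_of_le_of_finrank_eq le_top
      (h5.trans IntermediateField.finrank_top'.symm), IntermediateField.top_toSubalgebra]

/-- irreducibility -/
theorem irr {μ : E} (hμ : Algebra.adjoin K {μ} = ⊤) (U : Submodule K E) (hU : ∀ x ∈ U, μ * x ∈ U) {x : E} (hx : x ∈ U)
    (h0 : x ≠ 0) (y : E) : y ∈ U := by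
  have h1 : ∀ z ∈ Algebra.adjoin K {μ}, ∀ x ∈ U, z * x ∈ U := fun z hz => by
    induction hz using Algebra.adjoin_induction with
    | mem z hz => exact hz ▸ hU
    | algebraMap c => exact fun x hx => Algebra.smul_def c x ▸ U.smul_mem c hx
    | add a b _ _ ha hb => exact fun x hx => add_mul a b x ▸ U.add_mem (ha x hx) (hb x hx)
    | mul a b _ _ ha hb => exact fun x hx => mul_assoc a b x ▸ ha _ (hb x hx)
  have h2 := h1 (y * x⁻¹) (hμ ▸ trivial) x hx
  rwa [inv_mul_cancel_right₀ h0] at h2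

end Sg

variable {K V E : Type} [Field K] [Fintype K] [AddCommGroup V] [Module K V] [Finite V] [Field E] [Finite E] [Algebra K E]
  {h : HF K V} {F : FR h.EB} {m : ℕ}

/-- the form as a bilinear form -/
def bil (o : IsSp h F) : LinearMap.BilinForm K V :=
  LinearMap.mk₂ K h.b h.add_left h.smul_left h.add_right fun c u v => by rw [h.smul_right, o.1, smul_eq_mul]

theorem bil_nd (o : IsSp h F) (v : V) (hv : ∀ w, bil o v w = 0) : v = 0 :=
  h.nondeg v fun w => by rw [h.swap v w, show h.b v w = 0 from hv w, map_zero, mul_zero]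

variable (h) in
/-- a block -/
structure Blk (s : Sg K E m) (e : h.EB) where
  /-- the embedding -/
  φ : E →ₗ[K] V
  /-- the projection -/
  ψ : V →ₗ[K] E
  ψφ : ∀ x, ψ (φ x) = x
  φψ : ∀ v, φ (ψ v) = h.ap e v
  b : ∀ x y, h.b (φ x) (φ y) = s.B x y

theorem b_idem {e : h.EB} (hs : star e = e) (x y : V) : h.b (h.ap e x) y = h.b x (h.ap e y) := by
  rw [← h.b_star, hs]

/-- the image of a symmetric idempotent is non-degenerate -/
theorem range_nd (o : IsSp h F) {e : h.EB} (hi : e * e = e) (hs : star e = e) (v : LinearMap.range (h.ap e))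
    (hv : ∀ w : LinearMap.range (h.ap e), (bil o).restrict _ v w = 0) : v = 0 := by
  obtain ⟨_, v, rfl⟩ := v
  refine Subtype.ext (bil_nd o _ fun w => ?_)
  have h1 : h.b (h.ap e v) (h.ap e w) = 0 := hv ⟨_, w, rfl⟩
  rwa [← b_idem hs, ← h.ap_mul, hi] at h1

theorem even_rk (o : IsSp h F) {e : h.EB} (hi : e * e = e) (hs : star e = e) : Even (rk h e) :=
  have : Module.Finite K V := Module.Finite.of_finite
  H727.GW.even_finrank _ _ ((bil o).restrict _) (fun x => o.2.1 x) (range_nd o hi hs) rfl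

theorem exists_blk (o : IsSp h F) (s : Sg K E m) {e : h.EB} (hi : e * e = e) (hs : star e = e) (hr : rk h e = 2 * m) :
    Nonempty (Blk h s e) := by
  have : Module.Finite K V := Module.Finite.of_finite
  have : Module.Finite K E := Module.Finite.of_finite
  obtain ⟨f, hf⟩ := ClassicalGeometry.SympIso.exists_linearEquiv_sympForm ((bil o).restrict (LinearMap.range (h.ap e)))
    (fun x => o.2.1 x) (range_nd o hi hs) hr
  obtain ⟨g, hg⟩ := ClassicalGeometry.SympIso.exists_linearEquiv_sympForm s.B s.B_self s.B_nd s.dim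
  refine ⟨⟨(LinearMap.range (h.ap e)).subtype ∘ₗ (g.symm.trans f).toLinearMap,
    (f.symm.trans g).toLinearMap ∘ₗ (h.ap e).rangeRestrict, fun x => ?_, fun v => ?_, fun x y => ?_⟩⟩
  · have h1 : (h.ap e).rangeRestrict (f (g.symm x)) = f (g.symm x) := by
      obtain ⟨v, hv⟩ := (f (g.symm x)).2
      exact Subtype.ext (show h.ap e _ = _ by rw [← hv, ← h.ap_mul, hi])
    change g (f.symm ((h.ap e).rangeRestrict (f (g.symm x)))) = x
    rw [h1, f.symm_apply_apply, g.apply_symm_apply]
  · change ((f (g.symm (g (f.symm ((h.ap e).rangeRestrict v)))) : LinearMap.range (h.ap e)) : V) = _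
    rw [g.symm_apply_apply, f.apply_symm_apply]
    rfl
  · exact (hf _ _).trans ((hg _ _).symm.trans 
      (congrArg₂ (fun a b => s.B a b) (g.apply_symm_apply x) (g.apply_symm_apply y)))

namespace Blk

variable {s : Sg K E m} {e e' : h.EB} (b : Blk h s e)

theorem inj {x y : E} (hxy : b.φ x = b.φ y) : x = y := by rw [← b.ψφ x, hxy, b.ψφ]

theorem ap_φ (x : E) : h.ap e (b.φ x) = b.φ x := by rw [← b.φψ, b.ψφ]

theorem ψ_zero {v : V} (hv : h.ap e v = 0) : b.ψ v = 0 := b.inj (by rw [b.φψ, hv, map_zero])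

theorem ap_other (he : e' * e = 0) (x : E) : h.ap e' (b.φ x) = 0 := by
  rw [← b.ap_φ, ← h.ap_mul, he, SB.Tor.ap_zero]

theorem b_zero (hs : star e = e) (x : E) {v : V} (hv : h.ap e v = 0) : h.b (b.φ x) v = 0 := by
  rw [← b.ap_φ, b_idem hs, hv, h.zero_right]

theorem b_zero' (hs : star e = e) (x : E) {v : V} (hv : h.ap e v = 0) : h.b v (b.φ x) = 0 := by
  rw [h.swap, b.b_zero hs x hv, map_zero, mul_zero]

end Blk

/-- the simple group does not preserve a frame -/
theorem not_inv {A : Type} [Ring A] [StarRing A] [Finite A] {F : FR A} {H : Subgroup (RingAut A)} {p : ℕ} (c : Ctx F H p)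
    {D : Finset A} (hD : Fr D) : ¬ Inv F.S D := by
  intro hI
  have : Finite (RingAut A) := Finite.of_injective (fun γ : RingAut A => (γ : A → A)) DFunLike.coe_injective
  obtain ⟨M, -, hM⟩ := Finite.exists_le_maximal (p := fun M : Subgroup (RingAut A) => M ≤ F.Aut ∧ ¬ F.S ≤ M)
    ⟨c.le, c.not_le⟩
  exact hD.not_le_stab NCTV.boxNC
    ⟨c.ss, c.span, c.simple, c.noncomm, hM.prop.1, hM.prop.2, fun M' h1 h2 h3 => hM.le_of_ge ⟨h2, h3⟩ h1⟩ (le_setStab hI)

end Cfsg.Agent.N2C.FrSp
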